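import Groth.Agent.GerbFlat.Main
import Groth.Agent.AlgStLib.QuasiCompact
import Groth.Agent.AlgStLib.DiagCover
import Groth.Agent.AlgStLib.Diag
import Groth.Agent.AlgStLib.SpProps

/-!
# Quasi-compactness of the diagonal descends along a gerbe
-/

set_option backward.isDefEq.respectTransparency false
set_option backward.isDefEq.respectTransparency.types false
set_option autoImplicit false

universe u

open CategoryTheory CategoryTheory.Functor CategoryTheory.Limits AlgebraicGeometry Opposite AlgSp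
open Groth.Agent.FibBase Groth.Agent.AlgSpLib Groth.Agent.AlgStLib

namespace Groth.Agent.GerbQc49

variable {S : Scheme.{u}} {𝒳 𝒴 : AlgSt.Cat S}

local notation "K₀" => Scheme.fppfPrecoverage

theorem qc_diag_congr {𝒵 : AlgSt.Cat S} {g g' : 𝒳 ⥤ᵇ 𝒵} (e : g = g')
    (h : AlgSt.IsQuasiCompactMor K₀ (FibCat.diag g')) : AlgSt.IsQuasiCompactMor K₀ (FibCat.diag g) := by
  subst e; exact h

theorem diag_toSelf (h𝒳 : AlgSt.IsAlgStack K₀ 𝒳) (h𝒴 : AlgSt.IsAlgStack K₀ 𝒴) {f : 𝒳 ⥤ᵇ 𝒴}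
    (hf : Gerb.IsGerbeOver (QuotSh.J K₀ S) f)
    (hΔ : AlgSt.IsQuasiCompactMor K₀ (FibCat.diag (FibCat.toSelf 𝒳))) :
    AlgSt.IsQuasiCompactMor K₀ (FibCat.diag (FibCat.toSelf 𝒴)) := by
  let t := FibCat.toSelf 𝒴
  have hP : AlgSt.IsAlgStack K₀ (FibCat.fp (BasedFunctor.comp f t) (BasedFunctor.comp f t)) :=
    isAlgStack_fp h𝒳 h𝒳 isStack_selfOver repByAlgSpWith_diag_toSelf_selfOver _ _
  have hQ : AlgSt.IsAlgStack K₀ (FibCat.fp f f) := GerbFlat.isAlgStack_fp_self h𝒳 h𝒴 f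
  have hd : AlgSt.IsSurjective (FibCat.diag f) := (GerbFlat.fppf_and_diag_of_isGerbeOver h𝒳 h𝒴 hf).2.1
  have hq : AlgSt.IsQuasiCompactMor K₀ (weaken f f t) :=
    isQuasiCompactMor_of_triangle h𝒳 hQ hP (diagCompIso f t) hd (qc_diag_congr (comp_toSelf f) hΔ)
  have hrep : AlgSt.RepByAlgSp1 (weaken f f t) :=
    repByAlgSp1_iff_top.2 (repByAlgSpWith_weaken f f t (repByAlgSp1_iff_top.1 h𝒴.diag))
  have hqR : AlgSt.RepByAlgSpWith AlgSp.IsQuasiCompactMor (weaken f f t) :=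
    (repByAlgSpWith_isQuasiCompactMor_iff hQ hP.isStack hP.diag hrep).2 hq
  have hes := GerbFlat.locEssSurj_of_locSurjObj h𝒳.isStack.1 h𝒴.isStack.1 hf.1
  have hΔR : AlgSt.RepByAlgSpWith AlgSp.IsQuasiCompactMor (FibCat.diag t) :=
    repByAlgSpWith_of_locEssSurj stableBC_isQuasiCompactMor
      (isLocalOnBase_fppf_of_fpqc isLocalOnBase_fpqc_isQuasiCompactMor) h𝒴.diag (locEssSurj_pairMap t hes hes)
      ((repByAlgSpWith_iff_of_square (f' := weaken f f t) (f := FibCat.fpFst (pairMap f f t) (FibCat.diag t))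
        (a := diagComparison f f t) (b := BasedFunctor.id _) (diagComparison_isEquivOver f f t) isEquivOver_id
        (Iso.refl _)).2 hqR)
  have hYY := isAlgStack_prod h𝒴 h𝒴
  exact (repByAlgSpWith_isQuasiCompactMor_iff h𝒴 hYY.isStack hYY.diag h𝒴.diag).1 hΔR

end Groth.Agent.GerbQc49
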